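import Groth.Agent.Coh69.CechAcyclic

/-!
An alternating `1`-cocycle with values in an injective abelian sheaf on a space is a coboundary.
-/

universe u

open CategoryTheory Limits TopologicalSpace Opposite

namespace Groth.Agent.PicH1x97

open Coh69

variable {X : TopCat.{u}} (F : Sheaf (Opens.grothendieckTopology X) AddCommGrpCat.{u}) [Injective F]

/-- A cocycle with values in an injective sheaf is a coboundary. -/
theorem exists_split {ι : Type u} (W : ι → Opens X) (s : ∀ i j, F.obj.obj (op (W i ⊓ W j)))
    (hs : ∀ (i j k : ι) (A : Opens X) (hij : A ≤ W i ⊓ W j) (hjk : A ≤ W j ⊓ W k) (hik : A ≤ W i ⊓ W k),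
      res F.obj hij (s i j) + res F.obj hjk (s j k) = res F.obj hik (s i k)) :
    ∃ a : ∀ i, F.obj.obj (op (W i)), ∀ i j,
      res F.obj (inf_le_right : W i ⊓ W j ≤ W j) (a j) =
        res F.obj (inf_le_left : W i ⊓ W j ≤ W i) (a i) + s i j := by
  classical
  let A : X → AddCommGrpCat.{u} := fun x => TopCat.Presheaf.stalk F.obj x
  let e : F.obj ⟶ pointwisePresheaf A :=
    { app := fun V => AddCommGrpCat.ofHom
        { toFun := fun s x => TopCat.Presheaf.germ F.obj V.unop x.1 x.2 s
          map_zero' := funext fun x => map_zero _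
          map_add' := fun a b => funext fun x => map_add _ a b }
      naturality := fun V W h => by
        ext s
        funext x
        exact TopCat.Presheaf.germ_res_apply' F.obj h x.1 x.2 s }
  have : Mono e := by
    have : ∀ V, Mono (e.app V) := fun V => by
      rw [AddCommGrpCat.mono_iff_injective]
      intro s t hst
      exact TopCat.Presheaf.section_ext F V.unop s t fun x hx => congrFun hst ⟨x, hx⟩
    exact NatTrans.mono_of_mono_app _
  have : Injective F.obj :=
    Injective.injective_of_adjoint
      (sheafificationAdjunction (Opens.grothendieckTopology X) AddCommGrpCat.{u}) F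
  let r : pointwisePresheaf A ⟶ F.obj := Injective.factorThru (𝟙 F.obj) e
  have hr : e ≫ r = 𝟙 F.obj := Injective.comp_factorThru _ _
  -- a chosen index at each point of the union
  rcases isEmpty_or_nonempty ι with hι | hι
  · exact ⟨fun i => isEmptyElim i, fun i => isEmptyElim i⟩
  choose c hc using fun x : X => (show ∃ k : ι, (∃ k', x ∈ W k') → x ∈ W k from
    if h : ∃ k', x ∈ W k' then ⟨h.choose, fun _ => h.choose_spec⟩
    else ⟨Classical.arbitrary ι, fun h' => absurd h' h⟩)
  let b : ∀ i, (pointwisePresheaf A).obj (op (W i)) := fun i x =>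
    TopCat.Presheaf.germ F.obj (W (c x.1) ⊓ W i) x.1 ⟨hc x.1 ⟨i, x.2⟩, x.2⟩ (s (c x.1) i)
  refine ⟨fun i => r.app _ (b i), fun i j => ?_⟩
  have key : res (pointwisePresheaf A) (inf_le_right : W i ⊓ W j ≤ W j) (b j) =
      res (pointwisePresheaf A) (inf_le_left : W i ⊓ W j ≤ W i) (b i) + e.app _ (s i j) := by
    funext x
    have hk : x.1 ∈ W (c x.1) := hc x.1 ⟨i, x.2.1⟩
    have h := hs (c x.1) i j (W (c x.1) ⊓ (W i ⊓ W j))
      (le_inf inf_le_left (inf_le_right.trans inf_le_left)) inf_le_right
      (le_inf inf_le_left (inf_le_right.trans inf_le_right))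
    have h2 := congrArg (TopCat.Presheaf.germ F.obj (W (c x.1) ⊓ (W i ⊓ W j)) x.1 ⟨hk, x.2⟩) h
    rw [map_add] at h2
    erw [TopCat.Presheaf.germ_res_apply, TopCat.Presheaf.germ_res_apply,
      TopCat.Presheaf.germ_res_apply] at h2
    exact h2.symm
  have h3 := congrArg (r.app _) key
  rw [map_add, hom_res, hom_res] at h3
  refine h3.trans (congrArg _ ?_)
  exact ConcreteCategory.congr_hom (NatTrans.congr_app hr _) (s i j)

end Groth.Agent.PicH1x97
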