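import Groth.Prelude.Def_UnitsSh
import Groth.Prelude.Def_PicGrp
import Groth.Agent.PicH1x97.Split
import Groth.Agent.Coh69.Sections
import Groth.Agent.Amp73.Local
import Groth.Agent.EGA73.LineCocycle
import Groth.Agent.Curves2.Glue.Descend

/-!
Trivialised line bundles and the sections of `I / O^×` for an injective sheaf `I` containing the units.
-/

set_option autoImplicit false
set_option backward.isDefEq.respectTransparency false

universe u

open CategoryTheory CategoryTheory.Limits AlgebraicGeometry TopologicalSpace Opposite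

noncomputable section

namespace Groth.Agent.PicH1x97

open Var76.LineBundle Var76.ZeroScheme

variable (X : Scheme.{u})

/-- `0 → O^× → I → I / O^× → 0` with `I` injective. -/
abbrev ses : ShortComplex (CohTop.Ab X.toTopCat) := SiteCoh.injSES (UnitsSh.unitsAb X)

/-- Sections of the injective sheaf. -/
abbrev Isec (U : X.Opens) : Type u := (ses X).X₂.obj.obj (op U)

/-- Sections of the quotient sheaf. -/
abbrev Qsec (U : X.Opens) : Type u := (ses X).X₃.obj.obj (op U)

variable {X}

/-- A unit as a section of the injective sheaf. -/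
def isec {U : X.Opens} (c : Γ(X, U)ˣ) : Isec X U :=
  (ses X).f.hom.app (op U) (UnitsSh.sectOfUnit (O := X.presheaf) (U := op U) c)

/-- The projection to the quotient. -/
abbrev pr {U : X.Opens} (a : Isec X U) : Qsec X U := (ses X).g.hom.app (op U) a

/-- Restriction in the injective sheaf. -/
abbrev ires {U V : X.Opens} (h : V ≤ U) (a : Isec X U) : Isec X V := Coh69.res (ses X).X₂.obj h a

/-- Restriction in the quotient sheaf. -/
abbrev qres {U V : X.Opens} (h : V ≤ U) (a : Qsec X U) : Qsec X V := Coh69.res (ses X).X₃.obj h a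

/-- Restriction of units. -/
abbrev ures {U V : X.Opens} (h : V ≤ U) (c : Γ(X, U)ˣ) : Γ(X, V)ˣ :=
  Units.map (X.presheaf.map (homOfLE h).op).hom.toMonoidHom c

theorem isec_mul {U : X.Opens} (c d : Γ(X, U)ˣ) : isec (c * d) = isec c + isec d :=
  map_add ((ses X).f.hom.app (op U)).hom _ _

theorem isec_one {U : X.Opens} : isec (1 : Γ(X, U)ˣ) = 0 :=
  map_zero ((ses X).f.hom.app (op U)).hom

theorem ires_isec {U V : X.Opens} (h : V ≤ U) (c : Γ(X, U)ˣ) : ires h (isec c) = isec (ures h c) :=
  (Coh69.hom_res (ses X).f.hom h (UnitsSh.sectOfUnit (O := X.presheaf) (U := op U) c)).symm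

theorem pr_isec {U : X.Opens} (c : Γ(X, U)ˣ) : pr (isec c) = 0 :=
  Coh69.sect_f_g (ses X) U _

theorem pr_ires {U V : X.Opens} (h : V ≤ U) (a : Isec X U) : pr (ires h a) = qres h (pr a) :=
  Coh69.hom_res (ses X).g.hom h a

theorem ires_ires {U V W : X.Opens} (h : V ≤ U) (h' : W ≤ V) (a : Isec X U) :
    ires h' (ires h a) = ires (h'.trans h) a :=
  Coh69.res_res _ h' h a

theorem qres_qres {U V W : X.Opens} (h : V ≤ U) (h' : W ≤ V) (a : Qsec X U) :
    qres h' (qres h a) = qres (h'.trans h) a :=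
  Coh69.res_res _ h' h a

theorem ires_add {U V : X.Opens} (h : V ≤ U) (a b : Isec X U) : ires h (a + b) = ires h a + ires h b :=
  map_add _ _ _

theorem isec_injective {U : X.Opens} : Function.Injective (isec (X := X) (U := U)) := fun c d h => by
  have := Coh69.sect_injective (SiteCoh.injSES_shortExact (UnitsSh.unitsAb X)) U h
  exact congrArg UnitsSh.unitOfSect this

theorem exists_isec_eq {U : X.Opens} (a : Isec X U) (h : pr a = 0) : ∃ c, isec c = a := by
  obtain ⟨t, ht⟩ := Coh69.sect_exact (SiteCoh.injSES_shortExact (UnitsSh.unitsAb X)) U a h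
  exact ⟨UnitsSh.unitOfSect t, ht⟩

/-- Local frames of `L` with logarithms in `I` lifting `q`. -/
structure Triv (L : X.Modules) (q : Qsec X ⊤) where
  κ : Type u
  W : κ → X.Opens
  cov : ∀ x : X, ∃ k, x ∈ W k
  e : ∀ k, Γ(L, W k)
  he : ∀ k, IsFrame L (W k) (e k)
  a : ∀ k, Isec X (W k)
  ha : ∀ k, pr (a k) = qres le_top q
  compat : ∀ k l, ∃ c : Γ(X, W k ⊓ W l)ˣ,
    res L inf_le_right (e l) = (c : Γ(X, W k ⊓ W l)) • res L inf_le_left (e k) ∧
      ires inf_le_right (a l) = ires inf_le_left (a k) + isec c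

/-- `q` is a class of `L`. -/
def Rel (L : X.Modules) (q : Qsec X ⊤) : Prop := Nonempty (Triv L q)

theorem exists_unit {L : X.Modules} {U : X.Opens} {e e' : Γ(L, U)} (he : IsFrame L U e) (he' : IsFrame L U e') :
    ∃ c : Γ(X, U)ˣ, e' = (c : Γ(X, U)) • e := by
  obtain ⟨c, hc⟩ := (he U le_rfl).2 e'
  dsimp only at hc
  rw [Amp73.res_self] at hc
  exact ⟨((Amp73.isFrame_smul_iff he c).1 (hc.symm ▸ he')).unit, hc.symm⟩

theorem unit_eq {L : X.Modules} {U : X.Opens} {e : Γ(L, U)} (he : IsFrame L U e) {c d : Γ(X, U)ˣ}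
    (h : (c : Γ(X, U)) • e = (d : Γ(X, U)) • e) : c = d := by
  refine Units.ext ((he U le_rfl).1 ?_)
  dsimp only
  rw [Amp73.res_self]
  exact h

/-- Every line bundle has a class. -/
theorem exists_rel {L : X.Modules} (hL : PicF.IsInvertible L) : ∃ q, Rel L q := by
  choose W hxW e he using fun x : X => Mero90.exists_frame' hL x
  choose c hc using fun x y : X =>
    exists_unit ((he x).res (inf_le_left : W x ⊓ W y ≤ W x)) ((he y).res (inf_le_right : W x ⊓ W y ≤ W y))
  obtain ⟨a, ha⟩ := exists_split (ses X).X₂ W (fun x y => isec (c x y)) fun x y z A hxy hyz hxz => by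
    show ires hxy (isec _) + ires hyz (isec _) = ires hxz (isec _)
    rw [ires_isec, ires_isec, ires_isec, ← isec_mul]
    congr 1
    refine unit_eq ((he x).res (hxy.trans inf_le_left)) ?_
    have e1 := congrArg (res L hxy) (hc x y)
    have e2 := congrArg (res L hyz) (hc y z)
    have e3 := congrArg (res L hxz) (hc x z)
    simp only [res_smul, res_res] at e1 e2 e3
    rw [e1, e3, smul_smul] at e2
    rw [Units.val_mul, mul_comm]
    exact e2.symm
  have hgl : ∀ x y, qres inf_le_left (pr (a x)) = qres (inf_le_right : W x ⊓ W y ≤ W y) (pr (a y)) := by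
    intro x y
    rw [← pr_ires, ← pr_ires]
    show pr _ = pr (Coh69.res _ _ (a y))
    rw [ha x y]
    show pr _ = pr (_ + isec (c x y))
    simp only [pr, map_add]
    rw [show (ses X).g.hom.app _ (isec (c x y)) = 0 from pr_isec _, add_zero]
  obtain ⟨q, hq⟩ := Coh69.sheaf_glue (ses X).X₃ W
    (fun x _ => Opens.mem_iSup.2 ⟨x, hxW x⟩) (fun x => le_top) (fun x => pr (a x)) hgl
  exact ⟨q, ⟨{
    κ := X, W := W, cov := fun x => ⟨x, hxW x⟩, e := e, he := he, a := a,
    ha := fun x => (hq x).symm,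
    compat := fun x y => ⟨c x y, hc x y, ha x y⟩ }⟩⟩

/-- Every section of the quotient is the class of a line bundle. -/
theorem exists_rel' (q : Qsec X ⊤) : ∃ L : X.Modules, PicF.IsInvertible L ∧ Rel L q := by
  have hg : Sheaf.IsLocallySurjective (ses X).g :=
    (Sheaf.isLocallySurjective_iff_epi' AddCommGrpCat.{u} (ses X).g).2
      (SiteCoh.injSES_shortExact (UnitsSh.unitsAb X)).epi_g
  have hloc : ∀ x : X, ∃ (W : X.Opens) (_ : x ∈ W) (a : Isec X W), pr a = qres le_top q := by
    intro x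
    obtain ⟨W, f, ⟨a, ha⟩, hx⟩ := Presheaf.imageSieve_mem (Opens.grothendieckTopology X.toTopCat)
      (ses X).g.hom q x (show x ∈ (⊤ : X.Opens) from trivial)
    exact ⟨W, hx, a, ha⟩
  choose W hxW a ha using hloc
  have hker : ∀ x y, ∃ c : Γ(X, W x ⊓ W y)ˣ, isec c = ires inf_le_right (a y) - ires inf_le_left (a x) := by
    intro x y
    refine exists_isec_eq _ ?_
    show (ses X).g.hom.app _ _ = 0
    rw [map_sub]
    show pr _ - pr _ = 0
    rw [pr_ires, pr_ires, ha, ha, qres_qres, qres_qres, sub_self]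
  choose c hc using hker
  have h1 : ∀ x, c x x = 1 := fun x => isec_injective (by
    rw [hc, isec_one]; exact sub_self _)
  have h3 : ∀ (i j k : X) (A : X.Opens) (hij : A ≤ W i ⊓ W j) (hjk : A ≤ W j ⊓ W k) (hik : A ≤ W i ⊓ W k),
      ures hij (c i j) * ures hjk (c j k) = ures hik (c i k) := by
    intro i j k A hij hjk hik
    apply isec_injective
    rw [isec_mul, ← ires_isec, ← ires_isec, ← ires_isec, hc, hc, hc]
    simp only [ires, map_sub]
    show ires _ (ires _ _) - ires _ (ires _ _) + (ires _ (ires _ _) - ires _ (ires _ _)) =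
      ires _ (ires _ _) - ires _ (ires _ _)
    simp only [ires_ires]
    abel
  obtain ⟨N, g, hN, hg', hgg⟩ := EGA73.exists_lineBundle (W := W) (fun x => ⟨x, hxW x⟩)
    (fun x y => (c x y : Γ(X, W x ⊓ W y))) (fun x => by rw [h1]; rfl)
    (fun i j k A hij hjk hik => congrArg Units.val (h3 i j k A hij hjk hik))
  exact ⟨N, hN, ⟨{
    κ := X, W := W, cov := fun x => ⟨x, hxW x⟩, e := g, he := hg', a := a, ha := ha,
    compat := fun x y => ⟨c x y, hgg x y, by rw [hc]; exact (add_sub_cancel _ _).symm⟩ }⟩⟩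

/-- Classes add under tensor product. -/
theorem Rel.tensor {L M : X.Modules} {q r : Qsec X ⊤} (hL : Rel L q) (hM : Rel M r) :
    Rel (CohB1.tensorMod L M) (q + r) := by
  obtain ⟨S⟩ := hL
  obtain ⟨T⟩ := hM
  exact ⟨{
    κ := S.κ × T.κ
    W := fun p => S.W p.1 ⊓ T.W p.2
    cov := fun x => by
      obtain ⟨k, hk⟩ := S.cov x
      obtain ⟨l, hl⟩ := T.cov x
      exact ⟨(k, l), hk, hl⟩
    e := fun p => Amp73.tm L M (res L inf_le_left (S.e p.1)) (res M inf_le_right (T.e p.2))
    he := fun p => Amp73.isFrame_tm ((S.he p.1).res _) ((T.he p.2).res _)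
    a := fun p => ires inf_le_left (S.a p.1) + ires inf_le_right (T.a p.2)
    ha := fun p => by
      show (ses X).g.hom.app _ _ = _
      rw [map_add]
      show pr _ + pr _ = Coh69.res _ _ (q + r)
      rw [pr_ires, pr_ires, S.ha, T.ha, qres_qres, qres_qres, map_add]
    compat := fun p p' => by
      obtain ⟨c, hc, hca⟩ := S.compat p.1 p'.1
      obtain ⟨d, hd, hda⟩ := T.compat p.2 p'.2
      have h1 : (S.W p.1 ⊓ T.W p.2) ⊓ (S.W p'.1 ⊓ T.W p'.2) ≤ S.W p.1 ⊓ S.W p'.1 :=
        inf_le_inf inf_le_left inf_le_left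
      have h2 : (S.W p.1 ⊓ T.W p.2) ⊓ (S.W p'.1 ⊓ T.W p'.2) ≤ T.W p.2 ⊓ T.W p'.2 :=
        inf_le_inf inf_le_right inf_le_right
      refine ⟨ures h1 c * ures h2 d, ?_, ?_⟩
      · have e1 := congrArg (res L h1) hc
        have e2 := congrArg (res M h2) hd
        simp only [res_smul, res_res] at e1 e2
        rw [Amp73.res_tm, Amp73.res_tm, res_res, res_res, res_res, res_res, e1, e2, Amp73.tm_smul]
        rfl
      · have e1 := congrArg (ires h1) hca
        have e2 := congrArg (ires h2) hda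
        rw [ires_add] at e1 e2
        rw [ires_add, ires_add]
        rw [ires_isec, ires_ires, ires_ires] at e1 e2
        rw [ires_ires, ires_ires, ires_ires, ires_ires, e1, e2, isec_mul]
        abel }⟩

/-- Classes transport along isomorphisms. -/
theorem Rel.of_iso {L M : X.Modules} {q : Qsec X ⊤} (hL : Rel L q) (φ : L ≅ M) : Rel M q := by
  obtain ⟨S⟩ := hL
  exact ⟨{
    κ := S.κ, W := S.W, cov := S.cov, e := fun k => φ.hom.app _ (S.e k),
    he := fun k => (Amp73.isFrame_app_iff φ.hom _).2 (S.he k), a := S.a, ha := S.ha,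
    compat := fun k l => by
      obtain ⟨c, hc, hca⟩ := S.compat k l
      refine ⟨c, ?_, hca⟩
      have := congrArg (φ.hom.app _) hc
      simp only [Scheme.Modules.Hom.app_smul, Mero90.app_res] at this
      exact this }⟩

/-- The classes of the trivial bundle are global images. -/
theorem exists_pr_eq {q : Qsec X ⊤} (h : Rel (Coh.structureModule X) q) : ∃ b : Isec X ⊤, pr b = q := by
  obtain ⟨S⟩ := h
  choose u hu using fun k => exists_unit (Amp73.isFrame_one (S.W k)) (S.he k)
  have hval : ∀ k, (S.e k : Γ(X, S.W k)) = (u k : Γ(X, S.W k)) := fun k => (hu k).trans (mul_one (u k : Γ(X, S.W k)))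
  have hcomp : ∀ k l, ires (inf_le_left : S.W k ⊓ S.W l ≤ S.W k) (S.a k - isec (u k)) =
      ires (inf_le_right : S.W k ⊓ S.W l ≤ S.W l) (S.a l - isec (u l)) := by
    intro k l
    obtain ⟨c, hc, hca⟩ := S.compat k l
    have hul : ures (inf_le_right : S.W k ⊓ S.W l ≤ S.W l) (u l) =
        c * ures (inf_le_left : S.W k ⊓ S.W l ≤ S.W k) (u k) := by
      apply Units.ext
      have e1 : fres (inf_le_right : S.W k ⊓ S.W l ≤ S.W l) (S.e l : Γ(X, S.W l)) =
          (c : Γ(X, S.W k ⊓ S.W l)) * fres inf_le_left (S.e k : Γ(X, S.W k)) := hc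
      rw [hval, hval] at e1
      exact e1
    simp only [ires, map_sub]
    show ires _ _ - ires _ _ = ires _ _ - ires _ _
    rw [ires_isec, ires_isec, hul, isec_mul, hca]
    abel
  obtain ⟨b, hb⟩ := Coh69.sheaf_glue (ses X).X₂ S.W
    (fun x _ => Opens.mem_iSup.2 (S.cov x)) (fun k => le_top) (fun k => S.a k - isec (u k)) hcomp
  refine ⟨b, Coh69.sheaf_ext (ses X).X₃ S.W (fun x _ => Opens.mem_iSup.2 (S.cov x)) (fun k => le_top) _ _
    fun k => ?_⟩
  show qres _ (pr b) = qres _ q
  rw [← pr_ires]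
  show pr (Coh69.res _ _ b) = _
  rw [hb k]
  show (ses X).g.hom.app _ (S.a k - isec (u k)) = _
  rw [map_sub]
  show pr _ - pr _ = _
  rw [S.ha, pr_isec, sub_zero]

/-- A bundle with a global image as class is trivial. -/
theorem trivial_of_pr {L : X.Modules} (b : Isec X ⊤) (h : Rel L (pr b)) :
    Nonempty (L ≅ Coh.structureModule X) := by
  obtain ⟨S⟩ := h
  have hu : ∀ k, ∃ u : Γ(X, S.W k)ˣ, isec u = S.a k - ires le_top b := fun k => exists_isec_eq _ (by
    show (ses X).g.hom.app _ _ = 0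
    rw [map_sub]
    show pr _ - pr _ = 0
    rw [S.ha, pr_ires, sub_self])
  choose u hu using hu
  refine Curves2.Glue.nonempty_iso_of_frames S.W S.cov S.e
    (fun k => ((u k : Γ(X, S.W k)) : Γ(Coh.structureModule X, S.W k))) S.he ?_ ?_
  · intro k
    have := (Amp73.isFrame_smul_iff (Amp73.isFrame_one (S.W k)) (u k : Γ(X, S.W k))).2 (u k).isUnit
    convert this using 1
    exact (mul_one (u k : Γ(X, S.W k))).symm
  · intro k l d hd
    obtain ⟨c, hc, hca⟩ := S.compat k l
    have hul : ures (inf_le_right : S.W k ⊓ S.W l ≤ S.W l) (u l) =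
        c * ures (inf_le_left : S.W k ⊓ S.W l ≤ S.W k) (u k) := by
      apply isec_injective
      rw [isec_mul, ← ires_isec, ← ires_isec, hu, hu]
      simp only [ires, map_sub]
      show ires _ _ - ires _ (ires _ _) = _ + (ires _ _ - ires _ (ires _ _))
      rw [ires_ires, ires_ires, hca]
      abel
    have hdc : d * (c : Γ(X, S.W k ⊓ S.W l)) = 1 := by
      refine ((S.he k).res inf_le_left _ le_rfl).1 ?_
      dsimp only
      rw [Amp73.res_self, one_smul, mul_smul, ← hc, hd]
    show d * (ures inf_le_right (u l)).val = (ures inf_le_left (u k)).val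
    rw [hul, Units.val_mul, ← mul_assoc, hdc, one_mul]

/-- The class is well defined up to global images. -/
theorem exists_pr_eq_sub [PicGrp.Law X] {L : X.Modules} (hL : PicF.IsInvertible L) {q q' : Qsec X ⊤}
    (h : Rel L q) (h' : Rel L q') : ∃ b : Isec X ⊤, pr b = q - q' := by
  obtain ⟨M, hM, hMc⟩ := PicGrp.exists_eq_cls (PicGrp.cls L hL)⁻¹
  obtain ⟨ψ⟩ := (PicGrp.cls_mul_cls_eq_one_iff hL hM).1 (by rw [← hMc]; exact mul_inv_cancel _)
  obtain ⟨r, hr⟩ := exists_rel hM
  obtain ⟨b, hb⟩ := exists_pr_eq ((h.tensor hr).of_iso ψ)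
  obtain ⟨b', hb'⟩ := exists_pr_eq ((h'.tensor hr).of_iso ψ)
  refine ⟨b - b', ?_⟩
  show (ses X).g.hom.app _ (b - b') = _
  rw [map_sub]
  show pr b - pr b' = _
  rw [hb, hb']
  abel

end Groth.Agent.PicH1x97
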