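import Groth.Agent.PicH1x97.Rel

/-!
`Pic X ≅ H¹(X, O^×)`.
-/

set_option autoImplicit false
set_option backward.isDefEq.respectTransparency false

universe u

open CategoryTheory CategoryTheory.Limits AlgebraicGeometry TopologicalSpace Opposite

noncomputable section

namespace Groth.Agent.PicH1x97

variable (X : Scheme.{u})

/-- The global sections coming from the injective sheaf. -/
abbrev imTop : AddSubgroup (Qsec X ⊤) :=
  AddMonoidHom.range ((ses X).g.hom.app (op (⊤ : X.Opens))).hom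

theorem nonempty_addEquiv_h1 :
    Nonempty (CohTop.H (UnitsSh.unitsAb X) 1 ≃+ (Qsec X ⊤ ⧸ imTop X)) := by
  haveI : Subsingleton (Coh69.HE (ses X).X₂ 1 (⊤ : X.Opens)) :=
    Coh69.he_subsingleton_of_injective (ses X).X₂ 0 _
  exact ⟨(Coh69.hTerminalEquiv (T := (⊤ : X.Opens)) (Preorder.isTerminalTop _) (UnitsSh.unitsAb X) 1).trans
    (Coh69.coker0Equiv (SiteCoh.injSES_shortExact (UnitsSh.unitsAb X)) (⊤ : X.Opens)
      (QuotientAddGroup.mk' (imTop X)) (QuotientAddGroup.mk'_surjective _)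
      (fun s => (QuotientAddGroup.eq_zero_iff s).trans Iff.rfl))⟩

theorem nonempty_addEquiv [PicGrp.Law X] :
    Nonempty (Additive (PicLoc.PicSet X) ≃+ CohTop.H (UnitsSh.unitsAb X) 1) := by
  obtain ⟨E⟩ := nonempty_addEquiv_h1 X
  choose L hL hcls using fun c : PicLoc.PicSet X => PicGrp.exists_eq_cls c
  choose q hq using fun c => exists_rel (hL c)
  have key : ∀ (c : PicLoc.PicSet X) (M : X.Modules) (hM : PicF.IsInvertible M) (r : Qsec X ⊤),
      PicGrp.cls M hM = c → Rel M r →
        (QuotientAddGroup.mk' (imTop X)) r = (QuotientAddGroup.mk' (imTop X)) (q c) := by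
    intro c M hM r hc hr
    obtain ⟨φ⟩ := (PicGrp.cls_eq_cls_iff hM (hL c)).1 (hc.trans (hcls c))
    obtain ⟨b, hb⟩ := exists_pr_eq_sub (hL c) (hr.of_iso φ) (hq c)
    exact QuotientAddGroup.eq_iff_sub_mem.2 ⟨b, hb⟩
  let Φ : Additive (PicLoc.PicSet X) →+ (Qsec X ⊤ ⧸ imTop X) :=
    AddMonoidHom.mk' (fun c => QuotientAddGroup.mk' (imTop X) (q c.toMul)) fun c d => by
      show _ = QuotientAddGroup.mk' _ _ + QuotientAddGroup.mk' _ _
      rw [← map_add]
      obtain ⟨N, hN, hNc⟩ := PicGrp.exists_eq_cls (c.toMul * d.toMul)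
      have h1 : PicF.cl (CohB1.tensorMod (L c.toMul) (L d.toMul)) = PicF.cl N := by
        have := congrArg Subtype.val hNc
        rw [hcls c.toMul, hcls d.toMul, PicGrp.cls_mul_cls_val] at this
        exact this
      obtain ⟨φ⟩ := (PicGrp.cl_eq_cl_iff _ _).1 h1
      exact (key (c.toMul * d.toMul) N hN _ hNc.symm
        (((hq c.toMul).tensor (hq d.toMul)).of_iso φ)).symm
  have hinj : Function.Injective Φ := by
    rw [injective_iff_map_eq_zero]
    intro c hc
    obtain ⟨b, hb⟩ := (QuotientAddGroup.eq_zero_iff (N := imTop X) (q c.toMul)).1 hc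
    have h2 : PicGrp.cls (L c.toMul) (hL c.toMul) = 1 :=
      (PicGrp.cls_eq_one_iff _).2 (trivial_of_pr b (by
        have e : pr b = q c.toMul := hb
        rw [e]
        exact hq c.toMul))
    exact Additive.toMul.injective ((hcls c.toMul).trans h2)
  have hsur : Function.Surjective Φ := by
    intro y
    obtain ⟨r, rfl⟩ := QuotientAddGroup.mk'_surjective (imTop X) y
    obtain ⟨M, hM, hr⟩ := exists_rel' r
    exact ⟨Additive.ofMul (PicGrp.cls M hM), (key _ M hM r rfl hr).symm⟩
  exact ⟨(AddEquiv.ofBijective Φ ⟨hinj, hsur⟩).trans E.symm⟩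

end Groth.Agent.PicH1x97
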